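import Cfsg.Agent.F8.D9

/-! Type `F₄` in characteristic two: the relations of the doubled root groups. -/

set_option autoImplicit false
set_option linter.unusedSectionVars false

namespace CF.F8

open Cfsg Cfsg.Lie Subgroup CF.Chev CF.Ld CF.Loc CF.LX
open CF.BN (cF4)
open scoped commutatorElement

namespace D8
open Kl

theorem t2 : ∀ r s : Fin 48, tabF4.code r s ≠ 0 → (cF4.len r = cF4.len s → cF4.len s = cF4.len (U1 r s) → kd r s = 2) ∧
    (cF4.len r = 2 → cF4.len s = 1 → kd r s = 3) := by decide +kernel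

theorem t3 : ∀ l s : Fin 48, kd l s = 3 → kd l (U1 l s) < 2 ∧ kd l (U2 l s) < 2 ∧ kd s (U1 l s) < 2 ∧ kd s (U2 l s) < 2 ∧
    kd (U1 l s) (U2 l s) < 2 := by decide +kernel

theorem t4 : ∀ r s : Fin 48, kd r s = 2 → kd r (U1 r s) < 2 ∧ kd s (U1 r s) < 2 := by decide +kernel

theorem ea : ∀ l s : Fin 48, cF4.len l = 2 → cF4.len s = 1 → tabF4.A l s = 0 → ∃ s' : Fin 48,
    kd (U1 s (cF4.neg s')) s' = 3 ∧ U1 (U1 s (cF4.neg s')) s' = s ∧ kd l s' < 2 ∧ tabF4.A l (U1 s (cF4.neg s')) = 0 ∧
    tabF4.A l (U2 (U1 s (cF4.neg s')) s') = 0 ∧ cF4.len (U2 (U1 s (cF4.neg s')) s') = 2 := by decide +kernel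

/-- auxiliary roots -/
noncomputable def wt (r s : Fin 48) : Fin 48 := Fin.ofNat 48 (Nat.mod (Nat.shiftRight
  0x1300000000030028a3000004c000000000000000000000000000000000000000000000048000000000b0090092c00004800000000000000000000000000000000000000000000120000000002c00082002c00004800000000000000000000000000000000000000000000000000000258e28a18618800000000000000000000000000000000000000004800000000000000000090071c00090000004800000000000000000000000000000000120000000000000000000081c01c02000000004800000000000000000000000000000004c00000000000000000000081c70080000000004c000000000000000000000000094000000000000000001c6db00000000000e38e0000006c000000000000000000000002300000000070000000000051400000000d34000034000050000000000000000000000088000000001b0000000000130130000003003000003000004c00000000000000000000220000000006c00000000000124800000002cb0000002c00004800000000000000000008400000000000144c000000000001300000a00000028a0000004c000000000000000002100000000000050048000000000048000000900000900900000048000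00000000000008400000000000004d20000000000120000000080000082000000004800000000000000220000000000000004d24800000000000000000001c71c000000000048000000000000000000000000b2400000000000000000000c30000000000000092c00000000000000000000000000002c02000000000000000000030030000000000002002c000000000000000000000000000c0002000000000000000000030c000000000000800030000000000000000000000000038034c28000000000000000000000000000000030028a30000000000000000000000000e00d00b24000000000000000000000000000000b0090092c000000000000000000000038000c2c02000000000000000000000000000002c00082002c00000000000000000000000002400070000000000c00000000000030000000001c000900000000000000000000000000a0000070000000000c00000000000c000000000700000a0000000000000000000000000002001c00000000030000000000000030000000001c02000000000000000000000000000080070000000000c00000000000000c00000000070080000000000000000000000000002800001c00000000030000000000030000000001c00002800000000000000000000000002400070000000000c00000000000030000000001c00090000000000000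0000000000000d00a2400070000000000000000000000000000090071c000900000000000000000000000c2802001c00000000000000000000000000000081c01c020000000000000000000000000b2480070000000000000000000000000000000081c700800000000000000000000000000c0002000000000000030c000000000000000000800030000000000000000000000000000b0080000000000000c00c000000000000000000800b00000000000000000000000000000b2400000000000000c30000000000000000000092c000000000000000000000001b00000000000c2cb0000000000000000000030c30000000000000002c000000000000001400000000a2400002400000000c00000000000c30000000000000090000000000000000130000002802000002000000030000000000030030000000000002000000000000000000120000002480000002000000c00000000000030c000000000000800000000000000000001300000c0000001c70000000030c00000000000030000000001c000000000000000000001200000b0000070070000000c00c00000000000c000000000700000000000000000000001200000b0000071c00000000c30000000000030000000001c00000000000000000000000120000002482000000000000c30c0000000000000000008000000000000000000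0000000130000000002001c72000000000000000000000130000000000000000000000000000000120000000080070072000000000000000000004800000000000000000000000000000000120000002400071c024000000000000000001200000000000000000000000000000000000000000b2482071c720000000000000000000000000000000000000000000000000000001200000b00820000b00000000048000000000000000000000000000000000000000000001200000b2402402c000000001200000000000000000000000000000000000000000000001300000c28a00c0000000004c0000000000000000000000000000000000000000000 (Nat.mul 6 (Nat.add (Nat.mul 48 r) s))) 64)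

set_option synthInstance.maxSize 2000 in
set_option synthInstance.maxHeartbeats 200000 in
theorem eb : ∀ l s : Fin 48, kd l s = 3 → ∀ s' ∈ [wt l s], ∀ l0 ∈ [U1 s (cF4.neg s')], ∀ l1 ∈ [U2 l0 s'], ∀ m0 ∈ [U1 l l0],
    kd l0 s' = 3 ∧ U1 l0 s' = s ∧ kd l s' < 2 ∧ kd l l0 = 2 ∧ kd l l1 = 2 ∧ kd m0 s' = 3 ∧ U1 m0 s' = U1 l s ∧
    U2 m0 s' = U1 l l1 ∧ kd m0 s < 2 ∧ kd m0 l1 = 2 ∧ U1 m0 l1 = U2 l s ∧ kd l1 (U1 l s) < 2 := by decide +kernel

set_option synthInstance.maxSize 2000 in
set_option synthInstance.maxHeartbeats 200000 in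
theorem ec : ∀ r s : Fin 48, kd r s = 2 → cF4.len r = 1 → ∀ s' ∈ [wt r s], ∀ l0 ∈ [U1 s (cF4.neg s')], ∀ l1 ∈ [U2 l0 s'],
    ∀ u0 ∈ [U1 l0 r], ∀ v0 ∈ [U2 l0 r], kd l0 s' = 3 ∧ U1 l0 s' = s ∧ kd r s' < 2 ∧ kd r l1 < 2 ∧ kd l0 r = 3 ∧
    kd v0 s' < 2 ∧ kd u0 s' = 2 ∧ U1 u0 s' = U1 r s ∧ kd u0 s < 2 ∧ kd v0 s < 2 ∧ kd u0 l1 < 2 ∧ kd v0 l1 < 2 ∧
    kd v0 (U1 r s) < 2 ∧ kd l1 (U1 r s) < 2 := by decide +kernel

theorem ln : ∀ r : Fin 48, cF4.len r = 1 ∨ cF4.len r = 2 := by decide +kernel

theorem A0 {r s : Fin 48} (k : kd r s < 2) : 0 ≤ cF4.A r s := (certF4.A_eq r s).symm ▸ (tab0 r s).2.2.1 k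

theorem eU {r s v : Fin 48} (e : cF4.vec v = cF4.vec r + cF4.vec s) : tabF4.code r s ≠ 0 ∧ U1 r s = v := by
  obtain ⟨a, b⟩ := certF4.add_iff.1 (e.trans (add_comm _ _))
  exact ⟨a, Fin.ext ((tab0 r s).1.trans (((tab0 r s).2.2.2.1 a).2.trans b))⟩

variable {G : Type*} [Group G] {a b e w g : G}

theorem cjc (h : ⁅a, b⁆ = w) : a * b * a⁻¹ = w * b := by rw [← h, commutatorElement_def, inv_mul_cancel_right]

theorem cml (a b e : G) : ⁅a * b, e⁆ = a * ⁅b, e⁆ * a⁻¹ * ⁅a, e⁆ := by simp only [commutatorElement_def]; group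

theorem cmr (a b e : G) : ⁅e, a * b⁆ = ⁅e, a⁆ * (a * ⁅e, b⁆ * a⁻¹) := by simp only [commutatorElement_def]; group

theorem fx (h : Commute a b) : a * b * a⁻¹ = b := by rw [h.eq, mul_inv_cancel_right]

theorem cjm (g a b : G) : g * (a * b) * g⁻¹ = g * a * g⁻¹ * (g * b * g⁻¹) := by group

theorem cjk (h : Commute g e) (a b : G) : g * (⁅a, e⁆ * b) * g⁻¹ = ⁅g * a * g⁻¹, e⁆ * (g * b * g⁻¹) := by
  conv_rhs => rw [← fx h]
  simp only [commutatorElement_def]; group

theorem sand (h : Commute a b) (k : a * a = 1) : a * b * a = b := by rw [h.eq, mul_assoc, k, mul_one]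

end D8
open D8 Kl

/-- it is enough to know the relations for the argument `1` of the short root -/
theorem SR4.of_one {R G : Type*} [CommRing R] [CharP R 2] [Group G] {y : Fin 48 → R → G}
    (add : ∀ r p q, y r (p + q) = y r p * y r q) (cm : ∀ r s, 0 ≤ cF4.A r s → ∀ p q, Commute (y r p) (y s q))
    (aL : ∀ r s : Fin 48, kd r s = 2 → cF4.len r = 2 → ∀ p q, ⁅y r p, y s q⁆ = y (U1 r s) (p * q))
    (a1 : ∀ r s : Fin 48, kd r s = 2 → ∀ p, ⁅y r p, y s 1⁆ = y (U1 r s) p)
    (b1 : ∀ l s : Fin 48, kd l s = 3 → ∀ p, ⁅y l p, y s 1⁆ = y (U1 l s) p * y (U2 l s) p) : SR4 y := by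
  have y0 : ∀ r, y r 0 = 1 := fun r => by simpa using add r 0 0
  have yy : ∀ r p, y r p * y r p = 1 := fun r p => by rw [← add, CharTwo.add_self_eq_zero, y0]
  have yi : ∀ r p, (y r p)⁻¹ = y r p := fun r p => inv_eq_of_mul_eq_one_right (yy r p)
  have c : ∀ {r s : Fin 48}, kd r s < 2 → ∀ p q, Commute (y r p) (y s q) := fun k => cm _ _ (A0 k)
  have ex : ∀ {l s s' : Fin 48}, kd l s' = 3 → U1 l s' = s → ∀ w, y s w = ⁅y l w, y s' 1⁆ * y (U2 l s') w :=
    fun k e w => by rw [b1 _ _ k, e, mul_assoc, yy, mul_one]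
  have b2 : ∀ l s : Fin 48, kd l s = 3 → ∀ p q, ⁅y l p, y s q⁆ = y (U1 l s) (p * q) * y (U2 l s) (p * q ^ 2) := fun l s k p w => by
    have k' := eb l s k _ (List.mem_singleton_self _)
    generalize wt l s = s' at k'
    obtain ⟨k1, k2, k3, k4, k5, k6, k7, k8, k9, k10, k11, k12⟩ := k' _ (List.mem_singleton_self _) _
      (List.mem_singleton_self _) _ (List.mem_singleton_self _)
    obtain ⟨-, -, t1, t2, t3⟩ := t3 l s k
    have ll := (tab3 l s k).1
    have e := cjk (c k3 p 1) (y (U1 s (cF4.neg s')) w) (y (U2 (U1 s (cF4.neg s')) s') w)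
    rw [← ex k1 k2, cjc (aL _ _ k4 ll p w), cjc (aL _ _ k5 ll p w), cml, b1 _ _ k1, b1 _ _ k6, k2, k7, k8, cjm,
      fx (c k9 _ _), cjc (aL _ _ k10 (tab3 _ _ k6).1 _ _), k11] at e
    rw [commutatorElement_def, mul_assoc _ _ (y s w)⁻¹, ← mul_assoc (y l p * y s w), e]
    simp only [mul_assoc]
    rw [← mul_assoc (y (U1 l (U2 _ s')) _), yy, one_mul, ← mul_assoc (y (U1 l s) _), ← mul_assoc (y (U2 (U1 _ _) s') w),
      ← mul_assoc (y (U2 (U1 _ _) s') w), sand (c k12 _ _) (yy _ _), ← mul_assoc (y (U2 l s) _), ← mul_assoc,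
      fx ((c t2 _ _).mul_right (c t1 _ _)), sq, (c t3 _ _).eq]
  refine ⟨add, cm, fun r s v k1 k2 e p w => ?_, fun l s u v k1 k2 e f p q => ?_⟩
  · obtain ⟨z, rfl⟩ := eU e
    have k := (t2 r s z).1 (k1.trans k2.symm) k2
    rcases ln r with l | l
    swap
    · exact aL r s k l p w
    have k' := ec r s k l _ (List.mem_singleton_self _)
    generalize wt r s = s' at k'
    obtain ⟨k1, k2, k3, k4, k5, k6, k7, k8, k9, k10, k11, k12, k13, k14⟩ := k' _ (List.mem_singleton_self _) _
      (List.mem_singleton_self _) _ (List.mem_singleton_self _) _ (List.mem_singleton_self _)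
    have e := cjk (c k3 p 1) (y (U1 s (cF4.neg s')) w) (y (U2 (U1 s (cF4.neg s')) s') w)
    rw [← ex k1 k2, fx (c k4 _ _), cjc ((commutatorElement_inv _ _).symm.trans (congrArg _ (b2 _ _ k5 w p))), mul_inv_rev,
      yi (U2 _ r), yi (U1 _ r), cml, b1 _ _ k1, k2, fx (((c k10 _ _).mul_right (c k12 _ _)).mul_left ((c k9 _ _).mul_right (c k11 _ _))),
      cml, a1 _ _ k7, k8, fx (c k13 _ _), (c k6 _ _).commutator_eq, mul_one, mul_assoc (y s w), mul_assoc (y s w),
      sand (c k14 _ _) (yy _ _)] at e
    rw [commutatorElement_def, e, fx (c (t4 r s k).2 _ _), mul_comm]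
  · obtain ⟨z, rfl⟩ := eU e
    have k := (t2 l s z).2 k1 k2
    rw [b2 l s k, cF4.vec_inj ((tab3 l s k).2.2.2.trans f.symm)]

variable {G : Type*} [Group G] {F : Type*} [Field F] [CharP F 2]

/-- the doubles `N` of all root elements `x` -/
structure D6 (x N : Fin 48 → F → G) (k : F) : Prop where
  sr : SR4 x
  add : ∀ r c d, N r (c + d) = N r c * N r d
  cx : ∀ r s, 0 ≤ cF4.A r s → ∀ c d, Commute (N r c) (x s d)
  cn : ∀ r s, 0 < cF4.A r s ∨ (cF4.A r s = 0 ∧ cF4.len r = cF4.len s) → ∀ c d, Commute (N r c) (N s d)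
  x2 : ∀ r s v, cF4.len r = cF4.len v → cF4.len s = cF4.len v → cF4.vec v = cF4.vec r + cF4.vec s →
    ∀ c d, ⁅x r c, N s d⁆ = N v (c * d)
  n2 : ∀ r s v, cF4.len r = 2 → cF4.len s = 2 → cF4.len v = 2 → cF4.vec v = cF4.vec r + cF4.vec s →
    ∀ c d, ⁅N r c, N s d⁆ = N v (c * d) * x v (k * (c * d))
  mix : ∀ l s u v, cF4.len l = 2 → cF4.len s = 1 → cF4.vec u = cF4.vec l + cF4.vec s → cF4.vec v = cF4.vec u + cF4.vec s →
    ∀ d c, ⁅N l d, x s c⁆ = N u (d * c) * N v (d * c ^ 2)

namespace D6
variable {x N : Fin 48 → F → G} {k : F} (h : D6 x N k)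
include h

theorem N0 (r : Fin 48) : N r 0 = 1 := by simpa using h.add r 0 0

theorem NN (r : Fin 48) (c : F) : N r c * N r c = 1 := by rw [← h.add, CharTwo.add_self_eq_zero, h.N0]

theorem Ni (r : Fin 48) (c : F) : (N r c)⁻¹ = N r c := inv_eq_of_mul_eq_one_right (h.NN r c)

theorem cls {l s : Fin 48} (a : cF4.len l = 2) (b : cF4.len s = 1) (e : cF4.A l s = 0) (c d : F) :
    Commute (N l c) (N s d) := by
  obtain ⟨s', k1, k2, k3, k4, k5, k6⟩ := ea l s a b ((certF4.A_eq l s).symm.trans e)
  obtain ⟨t1, t2, t3, t4⟩ := tab3 _ _ k1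
  have := h.mix _ _ _ _ t1 t2 t3 t4 d 1
  rw [k2, one_pow, mul_one] at this
  have c0 := h.cn l _ (.inr ⟨(certF4.A_eq l _).trans k4, a.trans t1.symm⟩) c d
  have c1 := h.cx l s' (A0 k3) c 1
  rw [eq_mul_inv_of_mul_eq this.symm, commutatorElement_def]
  exact (((c0.mul_right c1).mul_right c0.inv_right).mul_right c1.inv_right).mul_right
    (h.cn l _ (.inr ⟨(certF4.A_eq l _).trans k5, a.trans k6.symm⟩) c d).inv_right

theorem cN (r s : Fin 48) (a : 0 ≤ cF4.A r s) (c d : F) : Commute (N r c) (N s d) := by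
  rcases a.lt_or_eq with a | a
  · exact h.cn r s (.inl a) c d
  by_cases e : cF4.len r = cF4.len s
  · exact h.cn r s (.inr ⟨a.symm, e⟩) c d
  rcases ln r with k | k <;> rcases ln s with l | l
  · exact absurd (k.trans l.symm) e
  · exact (h.cls l k ((cF4.A_eq_zero_iff _ _).1 a.symm) d c).symm
  · exact h.cls k l a.symm c d
  · exact absurd (k.trans l.symm) e

theorem xc (r s : Fin 48) (a : 0 ≤ cF4.A r s) (c d : F) : Commute (x r c) (N s d) :=
  (h.cx s r (not_lt.1 fun l => not_lt.2 a ((cF4.A_neg_iff _ _).1 l)) d c).symm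

theorem sr4 : SR4 fun r (p : QuadraticAlgebra F k 1) => x r p.re * N r p.im := by
  have : CharP (QuadraticAlgebra F k 1) 2 := charP_of_injective_algebraMap (algebraMap F _).injective 2
  have s2 : ∀ r, 0 ≤ cF4.A r r := fun r => by rw [cF4.A_self]; decide
  have sw : ∀ r a b c d, x r a * N r b * (x r c * N r d) = x r (a + c) * N r (b + d) := fun r a b c d => by
    rw [h.sr.add, h.add, (h.cx r r (s2 r) b c).mul_mul_mul_comm]
  have nx : ∀ {r s v}, cF4.len r = cF4.len v → cF4.len s = cF4.len v → cF4.vec v = cF4.vec r + cF4.vec s →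
      ∀ c d, ⁅N r c, x s d⁆ = N v (c * d) := fun a b e c d => by
    rw [← commutatorElement_inv, h.x2 _ _ _ b a (e.trans (add_comm _ _)), h.Ni, mul_comm]
  refine SR4.of_one (fun r p q => (sw ..).symm) (fun r s a p q => ((h.sr.cm r s a _ _).mul_right (h.xc r s a _ _)).mul_left
    ((h.cx r s a _ _).mul_right (h.cN r s a _ _))) (fun r s e l p q => ?_) (fun r s e p => ?_) fun l s e p => ?_
  · obtain ⟨t1, t2, t3⟩ := tab2 r s e
    have a1 := A0 (t4 r s e).1
    have a2 := A0 (t4 r s e).2
    rw [cml, cmr, cmr, nx t1 t2 t3, h.n2 r s _ l (t2.trans (t1.symm.trans l)) (t1.symm.trans l) t3, h.sr.a2 r s _ t1 t2 t3,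
      h.x2 r s _ t1 t2 t3, fx ((h.xc s _ a2 _ _).mul_right (h.sr.cm s _ a2 _ _)), fx (h.xc s _ a2 _ _), ← mul_assoc (N _ _),
      ← h.add, (h.cx _ _ (s2 _) _ _).eq, fx ((h.sr.cm r _ a1 _ _).mul_right (h.xc r _ a1 _ _)), sw]
    congr 2 <;> simp <;> ring
  · obtain ⟨t1, t2, t3⟩ := tab2 r s e
    have a1 := A0 (t4 r s e).1
    simp only [QuadraticAlgebra.re_one, QuadraticAlgebra.im_one, h.N0, mul_one]
    rw [cml, nx t1 t2 t3, h.sr.a2 r s _ t1 t2 t3, fx (h.xc r _ a1 _ _), mul_one, mul_one, (h.cx _ _ (s2 _) _ _).eq]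
  · obtain ⟨t1, t2, t3, t4⟩ := tab3 l s e
    obtain ⟨a1, a2, -, -, a3⟩ := D8.t3 l s e
    simp only [QuadraticAlgebra.re_one, QuadraticAlgebra.im_one, h.N0, mul_one]
    rw [cml, h.mix l s _ _ t1 t2 t3 t4, h.sr.b2 l s _ _ t1 t2 t3 t4, one_pow, mul_one, mul_one,
      fx ((h.xc l _ (A0 a1) _ _).mul_right (h.xc l _ (A0 a2) _ _)), (h.xc _ _ (A0 a3) _ _).symm.mul_mul_mul_comm,
      (h.cx _ _ (s2 _) _ _).eq, (h.cx _ _ (s2 _) _ _).eq]

end D6

end CF.F8
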