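import Cfsg.Agent.Ld.O3

/-! Split endgame with weak numerics: data and basic facts. -/

set_option autoImplicit false
set_option linter.unusedSectionVars false

namespace CF.F8

open Cfsg Subgroup CF.Loc CF.LX CF.Ld
open scoped commutatorElement

section
variable {G : Type*} [Group G]

/-- Variant of `CF.Ld.OK` with weaker numerical hypotheses.  Two commuting subgroups `A`, `A ^ t` permuted by `M`; `t` fixes a unique point of `G / M`.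
`γ`, `φ` are the graph and field parts of the outer class on `A`; `W` is a complement to
`(S ⊓ A) (S ⊓ A ^ t)` in `S ⊓ N(A)`. -/
structure OJ {Γ Φ : Type*} [CommGroup Γ] [CommGroup Φ] (E M A S W : Subgroup G) (t z : G) (γ : G → Γ)
    (φ : G → Φ) (a g l k k₂ : ℕ) : Prop where
  en : E.Normal
  ep : ⁅E, E⁆ = E
  AE : A ≤ E
  AM : A ≤ M
  syl : IsSyl 2 S ⊤
  SM : S ≤ M
  tS : t ∈ S
  tt : t * t = 1
  uq : ∀ x : G, x * t * x⁻¹ ∈ M → x ∈ M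
  com : A ≤ 𝐂(cj[t] A)
  sw : ∀ m ∈ M, (cj[m] A = A ∧ cj[m] (cj[t] A) = cj[t] A) ∨ (cj[m] A = cj[t] A ∧ cj[m] (cj[t] A) = A)
  fai : S ⊓ 𝐂(A) ⊓ 𝐂(cj[t] A) = ⊥
  ne : S ⊓ A ≠ ⊥
  Γ2 : ∀ x : Γ, x * x = 1
  Γ1 : ∀ x y : Γ, x ≠ 1 → y ≠ 1 → x = y
  Φc : IsCyclic Φ
  γm : ∀ x ∈ M ⊓ 𝐍(A), ∀ y ∈ M ⊓ 𝐍(A), γ (x * y) = γ x * γ y
  φm : ∀ x ∈ M ⊓ 𝐍(A), ∀ y ∈ M ⊓ 𝐍(A), φ (x * y) = φ x * φ y
  kA : ∀ x ∈ A, γ x = 1 ∧ φ x = 1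
  kC : ∀ x ∈ M ⊓ 𝐂(A), γ x = 1 ∧ φ x = 1
  WS : W ≤ S ⊓ 𝐍(A)
  tW : cj[t] W = W
  dec : ∀ s ∈ S ⊓ 𝐍(A), ∃ u ∈ S ⊓ A, ∃ v ∈ S ⊓ cj[t] A, ∃ w ∈ W, s = u * v * w
  cen : ∀ w ∈ W, γ w = 1 → φ w = 1 → w ∈ 𝐂(A)
  upF : ∀ s ∈ S ⊓ 𝐍(A), φ s ≠ 1 → Nat.card ↥(S ⊓ A ⊓ 𝐂₁(s)) ≤ a
  upF2 : ∀ s ∈ S ⊓ 𝐍(A), φ s * φ s ≠ 1 → Nat.card ↥(S ⊓ A ⊓ 𝐂₁(s)) ^ 2 ≤ a
  upG : ∀ s ∈ S ⊓ 𝐍(A), γ s ≠ 1 → Nat.card ↥(S ⊓ A ⊓ 𝐂₁(s)) ≤ g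
  loF : ∀ w ∈ W, φ w ≠ 1 → φ w * φ w = 1 → a ≤ Nat.card ↥(S ⊓ A ⊓ 𝐂₁(w))
  loG : ∀ w ∈ W, γ w ≠ 1 → φ w = 1 → g ≤ Nat.card ↥(S ⊓ A ⊓ 𝐂₁(w))
  loI : ∀ u ∈ S ⊓ A, u * u = 1 → ∃ R ≤ A ⊓ 𝐂₁(u), IsPGroup 2 R ∧ l ≤ Nat.card R
  lang : ∀ w ∈ W, φ w ≠ 1 → φ w * φ w = 1 → ∀ u ∈ S ⊓ A, u * w * (u * w) ∈ 𝐂(A) →
    ∃ x ∈ S ⊓ A, x * (u * w) * x⁻¹ * w⁻¹ ∈ 𝐂(A)
  zA : z ∈ S ⊓ A
  zz : z * z = 1
  zc : S ⊓ 𝐍(A) ≤ 𝐂₁(z)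
  cls : ∀ w ∈ W, γ w ≠ 1 → φ w = 1 → z ∈ ⁅S ⊓ A ⊓ 𝐂₁(w), S ⊓ A ⊓ 𝐂₁(w)⁆ ∧ ∀ u ∈ S ⊓ A,
    u * w * (u * w) ∈ 𝐂(A) → ∃ x ∈ A, x * (u * w) * x⁻¹ * w⁻¹ ∈ 𝐂(A) ∨ x * (u * w) * x⁻¹ * (z * w)⁻¹ ∈ 𝐂(A)
  mo1 : (∃ w ∈ W, φ w ≠ 1) → Mono (S ⊓ A) k
  mo2 : ∀ w ∈ W, γ w = 1 → φ w ≠ 1 → φ w * φ w = 1 → (∃ s ∈ W, φ s * φ s = φ w) → Mono (S ⊓ A ⊓ 𝐂₁(w)) k₂ ∧ (2 * Nat.card W * k₂) ^ 2 < a
  nF : (∃ w ∈ W, φ w ≠ 1) → a * a ≤ Nat.card ↥(S ⊓ A) ∧ 2 * Nat.card ↥(S ⊓ A) * Nat.card W < a * l ∧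
    2 * Nat.card W * k * a < Nat.card ↥(S ⊓ A) ∧ a ≤ l ∧ 2 * Nat.card W < a
  nG : (∃ w ∈ W, γ w ≠ 1) → 2 * g * Nat.card W < l ∧ 2 * Nat.card ↥(S ⊓ A) * Nat.card W < g * g ∧
    l ≤ Nat.card ↥(S ⊓ A) ∧ ((∃ w ∈ W, φ w ≠ 1) →
      2 * a * Nat.card W < g ∧ 2 * Nat.card ↥(S ⊓ A) * Nat.card W < a * g)

end

variable {G : Type*} [Group G] [Finite G] {Γ Φ : Type*} [CommGroup Γ] [CommGroup Φ] {E M A S W R H : Subgroup G}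
  {t z s r w x y m u v d b : G} {γ : G → Γ} {φ : G → Φ} {a g l k k₂ : ℕ}

namespace OJ


theorem c1m : x ∈ 𝐂₁(y) ↔ x * y = y * x := mem_centralizer_singleton_iff

theorem p2 (h : x * x = 1) : IsPGroup 2 (zpowers x) := isPGroup_zpowers (k := 1) (by rw [pow_one, pow_two, h])

theorem csle {A B : Subgroup G} (h : A ≤ 𝐍(B)) : Nat.card ↥(A ⊔ B) ≤ Nat.card A * Nat.card B :=
  card_sup_mul_card_inf h ▸ Nat.le_mul_of_pos_right _ Nat.card_pos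

theorem cseq {A B : Subgroup G} (h : A ≤ 𝐍(B)) (e : A ⊓ B = ⊥) : Nat.card ↥(A ⊔ B) = Nat.card A * Nat.card B := by
  rw [← card_sup_mul_card_inf h, e, card_bot, mul_one]

/-- a function multiplicative on a subgroup -/
theorem hom1 {B : Type*} [CommGroup B] {X : Subgroup G} {f : G → B} (hf : ∀ x ∈ X, ∀ y ∈ X, f (x * y) = f x * f y) :
    f 1 = 1 ∧ (∀ x ∈ X, f x⁻¹ = (f x)⁻¹) ∧ ∀ m ∈ X, ∀ x ∈ X, f (m * x * m⁻¹) = f x := by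
  have a : f 1 = 1 := by simpa using hf 1 (one_mem _) 1 (one_mem _)
  have b : ∀ x ∈ X, f x⁻¹ = (f x)⁻¹ := fun x hx =>
    eq_inv_of_mul_eq_one_left (by rw [← hf _ (inv_mem hx) _ hx, inv_mul_cancel, a])
  exact ⟨a, b, fun m hm x hx => by
    rw [hf _ (mul_mem hm hx) _ (inv_mem hm), hf _ hm _ hx, b _ hm, mul_right_comm, mul_inv_cancel, one_mul]⟩

variable (h : OJ E M A S W t z γ φ a g l k k₂)
include h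

theorem ti : t⁻¹ = t := inv_eq_of_mul_eq_one_right h.tt
theorem tM : t ∈ M := h.SM h.tS
theorem tc (x : G) : t * (t * x * t) * t = x := by rw [← mul_assoc, ← mul_assoc, h.tt, one_mul, mul_assoc, h.tt, mul_one]
theorem tmul (x y : G) : t * (x * y) * t = t * x * t * (t * y * t) := by
  rw [show t * x * t * (t * y * t) = t * x * (t * t) * y * t by group, h.tt, mul_one, mul_assoc t x]
theorem tinv (x : G) : t * x⁻¹ * t = (t * x * t)⁻¹ := by simp only [mul_inv_rev, h.ti, mul_assoc]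
theorem tfix (c : w * t = t * w) : t * w * t = w := by rw [← c, mul_assoc, h.tt, mul_one]
theorem cjtt (X : Subgroup G) : cj[t] (cj[t] X) = X := by rw [← cj_mul, h.tt, cj_one]
theorem mem_t {X : Subgroup G} : x ∈ cj[t] X ↔ t * x * t ∈ X := by rw [mem_cj, h.ti]
theorem t_mem {X : Subgroup G} (c : x ∈ X) : t * x * t ∈ cj[t] X := h.mem_t.2 ((h.tc x).symm ▸ c)
theorem tS' (c : x ∈ S) : t * x * t ∈ S := mul_mem (mul_mem h.tS c) h.tS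
theorem com' : cj[t] A ≤ 𝐂(A) := le_centralizer_comm.1 h.com
theorem cm12 (hu : u ∈ A) (hv : v ∈ cj[t] A) : u * v = v * u := mem_centralizer_iff'.1 (h.com' hv) u hu
theorem c12 : x ∈ 𝐂(cj[t] A) ↔ t * x * t ∈ 𝐂(A) := by rw [← cj_centralizer, h.mem_t]
theorem triv (hS : x ∈ S) (h1 : x ∈ 𝐂(A)) (h2 : x ∈ 𝐂(cj[t] A)) : x = 1 := mem_bot.1 (h.fai ▸ ⟨⟨hS, h1⟩, h2⟩)
theorem int (hS : x ∈ S) (h1 : x ∈ A) (h2 : x ∈ cj[t] A) : x = 1 := h.triv hS (h.com' h2) (h.com h1)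
theorem nAA : A ≠ cj[t] A := fun e => h.ne (eq_bot_iff.2 fun _ c => mem_bot.2 (h.int c.1 c.2 (e ▸ c.2)))
theorem tn : t ∉ 𝐍(A) := fun c => h.nAA (cj_eq_self c).symm
theorem n2 (c : m ∈ M ⊓ 𝐍(A)) : m ∈ 𝐍(cj[t] A) :=
  (h.sw m c.1).elim (fun d => cj_eq_self_iff.1 d.2) fun d => absurd ((cj_eq_self c.2).symm.trans d.1) h.nAA
theorem swp (hm : m ∈ M) (n : m ∉ 𝐍(A)) : cj[m] A = cj[t] A ∧ cj[m] (cj[t] A) = A :=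
  (h.sw m hm).resolve_left fun d => n (cj_eq_self_iff.1 d.1)
theorem swp_mul (hm : m ∈ M) (hx : x ∈ M) (n : m ∉ 𝐍(A)) (n' : x ∉ 𝐍(A)) : m * x ∈ 𝐍(A) :=
  cj_eq_self_iff.1 (by rw [cj_mul, (h.swp hx n').1, (h.swp hm n).2])
theorem mt (hm : m ∈ M) (n : m ∉ 𝐍(A)) : m * t ∈ M ⊓ 𝐍(A) := ⟨mul_mem hm h.tM, h.swp_mul hm h.tM n h.tn⟩
theorem tj (c : s ∈ M ⊓ 𝐍(A)) : t * s * t ∈ M ⊓ 𝐍(A) :=
  h.mt (mul_mem h.tM c.1) fun d => h.tn ((𝐍(A).mul_mem_cancel_right c.2).1 d)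
theorem S0 : S ⊓ 𝐍(A) ≤ M ⊓ 𝐍(A) := inf_le_inf_right _ h.SM
theorem tjS (c : s ∈ S ⊓ 𝐍(A)) : t * s * t ∈ S ⊓ 𝐍(A) := ⟨h.tS' c.1, (h.tj (h.S0 c)).2⟩
theorem A0 : A ≤ M ⊓ 𝐍(A) := le_inf h.AM le_normalizer
theorem BM : cj[t] A ≤ M := cj_le_of_mem h.tM h.AM
theorem B0 : cj[t] A ≤ M ⊓ 𝐍(A) := le_inf h.BM (h.com'.trans (centralizer_le_normalizer _))
theorem BE : cj[t] A ≤ E := (cj_mono t h.AE).trans (by have := h.en; rw [cj_normal])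
theorem W0 : W ≤ M ⊓ 𝐍(A) := h.WS.trans h.S0
theorem U1 : S ⊓ A ≤ S ⊓ 𝐍(A) := inf_le_inf_left _ le_normalizer
theorem U2 : S ⊓ cj[t] A ≤ S ⊓ 𝐍(A) := inf_le_inf_left _ (h.B0.trans inf_le_right)
theorem tU : cj[t] (S ⊓ A) = S ⊓ cj[t] A := by rw [cj_inf, cj_eq_self_of_mem h.tS]
theorem t12 (c : u ∈ S ⊓ A) : t * u * t ∈ S ⊓ cj[t] A := ⟨h.tS' c.1, h.t_mem c.2⟩
theorem t21 (c : v ∈ S ⊓ cj[t] A) : t * v * t ∈ S ⊓ A := ⟨h.tS' c.1, h.mem_t.1 c.2⟩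
theorem wt (c : w ∈ W) : t * w * t ∈ W := h.tW ▸ h.t_mem c
theorem pS : IsPGroup 2 S := h.syl.isPGroup
theorem sylM : IsSyl 2 S M := h.syl.mono h.SM le_top
theorem sylE : IsSyl 2 (S ⊓ E) E := have := h.en; h.syl.inf_normal

theorem γ1 : γ 1 = 1 := (hom1 h.γm).1
theorem φ1 : φ 1 = 1 := (hom1 h.φm).1
theorem γi (c : x ∈ M ⊓ 𝐍(A)) : γ x⁻¹ = (γ x)⁻¹ := (hom1 h.γm).2.1 x c
theorem φi (c : x ∈ M ⊓ 𝐍(A)) : φ x⁻¹ = (φ x)⁻¹ := (hom1 h.φm).2.1 x c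
theorem γc (hm : m ∈ M ⊓ 𝐍(A)) (c : x ∈ M ⊓ 𝐍(A)) : γ (m * x * m⁻¹) = γ x := (hom1 h.γm).2.2 m hm x c
theorem φc (hm : m ∈ M ⊓ 𝐍(A)) (c : x ∈ M ⊓ 𝐍(A)) : φ (m * x * m⁻¹) = φ x := (hom1 h.φm).2.2 m hm x c
theorem γm' (c : x ∈ M ⊓ 𝐍(A)) (d : y ∈ M ⊓ 𝐍(A)) : γ (t * (x * y) * t) = γ (t * x * t) * γ (t * y * t) := by
  rw [h.tmul, h.γm _ (h.tj c) _ (h.tj d)]
theorem φm' (c : x ∈ M ⊓ 𝐍(A)) (d : y ∈ M ⊓ 𝐍(A)) : φ (t * (x * y) * t) = φ (t * x * t) * φ (t * y * t) := by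
  rw [h.tmul, h.φm _ (h.tj c) _ (h.tj d)]
theorem γc' (hm : m ∈ M ⊓ 𝐍(A)) (c : x ∈ M ⊓ 𝐍(A)) : γ (t * (m * x * m⁻¹) * t) = γ (t * x * t) := by
  rw [h.tmul, h.tmul, h.tinv, h.γc (h.tj hm) (h.tj c)]
theorem φc' (hm : m ∈ M ⊓ 𝐍(A)) (c : x ∈ M ⊓ 𝐍(A)) : φ (t * (m * x * m⁻¹) * t) = φ (t * x * t) := by
  rw [h.tmul, h.tmul, h.tinv, h.φc (h.tj hm) (h.tj c)]
theorem kB (c : x ∈ cj[t] A) : γ x = 1 ∧ φ x = 1 := h.kC x ⟨h.BM c, h.com' c⟩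
theorem φ2 (c : s ∈ M ⊓ 𝐍(A)) (s2 : s * s = 1) : φ s * φ s = 1 := by rw [← h.φm _ c _ c, s2, h.φ1]
theorem tsq (s2 : s * s = 1) : t * s * t * (t * s * t) = 1 := by rw [← h.tmul, s2, mul_one, h.tt]

/-- the swap sign -/
theorem eps : ∃ ε : G → ℤˣ, (∀ x ∈ M, ∀ y ∈ M, ε (x * y) = ε x * ε y) ∧ ∀ x, ε x = 1 ↔ x ∈ 𝐍(A) := by
  classical
  refine ⟨fun x => if x ∈ 𝐍(A) then 1 else -1, fun x hx y hy => ?_, fun x => by by_cases c : x ∈ 𝐍(A) <;> simp [c]⟩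
  by_cases c : x ∈ 𝐍(A) <;> by_cases d : y ∈ 𝐍(A)
  · simp [c, d, mul_mem]
  · simp [c, d, mul_mem_cancel_left c]
  · simp [c, d, mul_mem_cancel_right d]
  · simp [c, d, h.swp_mul hx hy c d]

/-- `2`-subgroups containing `t` lie in `M` -/
theorem sub2 (p : IsPGroup 2 R) (c : t ∈ R) : R ≤ M := by
  by_contra n
  obtain ⟨x, ⟨x1, x2⟩, x3⟩ := SetLike.exists_of_lt (lt_inf_normalizer (Q := R ⊓ M) p
    (lt_of_le_of_ne inf_le_left fun e => n (e.ge.trans inf_le_right)))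
  exact x3 ⟨x1, h.uq x (conj_mem_of_mem_normalizer x2 ⟨c, h.tM⟩).2⟩

/-- the kernel of the action on both factors has odd order -/
theorem oddD : Odd (Nat.card ↥(M ⊓ (𝐂(A) ⊓ 𝐂(cj[t] A)))) := by
  have s := h.sylM.inf_of_le_normalizer (N := M ⊓ (𝐂(A) ⊓ 𝐂(cj[t] A))) inf_le_left
    (le_normalizer_inf le_normalizer fun m hm => cj_eq_self_iff.1 (by
      rw [cj_inf, cj_centralizer, cj_centralizer]
      rcases h.sw m hm with c | c <;> rw [c.1, c.2]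
      exact inf_comm ..))
  by_contra n
  exact s.ne_bot_iff.2 (even_iff_two_dvd.1 (Nat.not_odd_iff_even.1 n))
    (eq_bot_iff.2 fun _ c => mem_bot.2 (h.triv c.1 c.2.2.1 c.2.2.2))

theorem triv2 (hm : x ∈ M) (h1 : x ∈ 𝐂(A)) (h2 : x ∈ 𝐂(cj[t] A)) {n : ℕ} (e : x ^ 2 ^ n = 1) : x = 1 :=
  orderOf_eq_one_iff.1 (((Nat.coprime_two_right.2 (h.oddD.of_dvd_nat (orderOf_dvd_natCard _ ⟨hm, h1, h2⟩))).pow_right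
    n).eq_one_of_dvd (orderOf_dvd_of_pow_eq_one e))

/-- an element of `W` is determined by its type -/
theorem w1 (c : w ∈ W) (a1 : γ w = 1) (a2 : φ w = 1) (a3 : γ (t * w * t) = 1) (a4 : φ (t * w * t) = 1) : w = 1 :=
  h.triv (h.WS c).1 (h.cen w c a1 a2) (h.c12.2 (h.cen _ (h.wt c) a3 a4))

theorem winj (c : w ∈ W) (d : x ∈ W) (a1 : γ w = γ x) (a2 : φ w = φ x) (a3 : γ (t * w * t) = γ (t * x * t))
    (a4 : φ (t * w * t) = φ (t * x * t)) : w = x := by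
  have c' := h.W0 c
  have d' := h.W0 d
  refine mul_inv_eq_one.1 (h.w1 (mul_mem c (inv_mem d)) ?_ ?_ ?_ ?_)
  · rw [h.γm _ c' _ (inv_mem d'), h.γi d', a1, mul_inv_cancel]
  · rw [h.φm _ c' _ (inv_mem d'), h.φi d', a2, mul_inv_cancel]
  · rw [h.γm' c' (inv_mem d'), h.tinv, h.γi (h.tj d'), a3, mul_inv_cancel]
  · rw [h.φm' c' (inv_mem d'), h.tinv, h.φi (h.tj d'), a4, mul_inv_cancel]

theorem wcomm (c : w ∈ W) (d : x ∈ W) : w * x = x * w := by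
  have c' := h.W0 c
  have d' := h.W0 d
  refine h.winj (mul_mem c d) (mul_mem d c) ?_ ?_ ?_ ?_
  · rw [h.γm _ c' _ d', h.γm _ d' _ c', mul_comm]
  · rw [h.φm _ c' _ d', h.φm _ d' _ c', mul_comm]
  · rw [h.γm' c' d', h.γm' d' c', mul_comm]
  · rw [h.φm' c' d', h.φm' d' c', mul_comm]

/-- diagonal elements of `W` commute with `t` -/
theorem diag (c : w ∈ W) (a1 : γ (t * w * t) = γ w) (a2 : φ (t * w * t) = φ w) : w * t = t * w := by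
  have := h.winj (h.wt c) c a1 a2 (by rw [h.tc, a1]) (by rw [h.tc, a2])
  rw [← this, mul_assoc, h.tt, mul_one, this]

theorem typ (hu : u ∈ A) (hv : v ∈ cj[t] A) (hw : w ∈ M ⊓ 𝐍(A)) : γ (u * v * w) = γ w ∧ φ (u * v * w) = φ w ∧
    γ (t * (u * v * w) * t) = γ (t * w * t) ∧ φ (t * (u * v * w) * t) = φ (t * w * t) := by
  have a := h.A0 hu
  have b := h.B0 hv
  rw [h.γm _ (mul_mem a b) _ hw, h.φm _ (mul_mem a b) _ hw, h.γm' (mul_mem a b) hw, h.φm' (mul_mem a b) hw,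
    h.γm _ a _ b, h.φm _ a _ b, h.γm' a b, h.φm' a b, (h.kA u hu).1, (h.kA u hu).2, (h.kB hv).1, (h.kB hv).2,
    (h.kB (h.t_mem hu)).1, (h.kB (h.t_mem hu)).2, (h.kA _ (h.mem_t.1 hv)).1, (h.kA _ (h.mem_t.1 hv)).2]
  simp

/-- decomposition with types -/
theorem wdec (hs : s ∈ S ⊓ 𝐍(A)) : ∃ u ∈ S ⊓ A, ∃ v ∈ S ⊓ cj[t] A, ∃ w ∈ W, s = u * v * w ∧ γ s = γ w ∧ φ s = φ w ∧
    γ (t * s * t) = γ (t * w * t) ∧ φ (t * s * t) = φ (t * w * t) := by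
  obtain ⟨u, hu, v, hv, w, hw, rfl⟩ := h.dec s hs
  exact ⟨u, hu, v, hv, w, hw, rfl, h.typ hu.2 hv.2 (h.W0 hw)⟩

theorem inU (hs : s ∈ S ⊓ 𝐍(A)) (a1 : γ s = 1) (a2 : φ s = 1) (a3 : γ (t * s * t) = 1) (a4 : φ (t * s * t) = 1) :
    ∃ u ∈ S ⊓ A, ∃ v ∈ S ⊓ cj[t] A, s = u * v := by
  obtain ⟨u, hu, v, hv, w, hw, e, b1, b2, b3, b4⟩ := h.wdec hs
  exact ⟨u, hu, v, hv, by rw [e, h.w1 hw (b1 ▸ a1) (b2 ▸ a2) (b3 ▸ a3) (b4 ▸ a4), mul_one]⟩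

theorem nU1 : S ⊓ 𝐍(A) ≤ 𝐍(S ⊓ A) := le_normalizer_inf (inf_le_left.trans le_normalizer) inf_le_right
theorem nU2 : S ⊓ 𝐍(A) ≤ 𝐍(S ⊓ cj[t] A) :=
  le_normalizer_inf (inf_le_left.trans le_normalizer) fun _ c => h.n2 (h.S0 c)
theorem memU : x ∈ (S ⊓ A) ⊔ (S ⊓ cj[t] A) ↔ ∃ u ∈ S ⊓ A, ∃ v ∈ S ⊓ cj[t] A, u * v = x :=
  mem_sup_of_le_normalizer (h.U2.trans h.nU1)
theorem disU : (S ⊓ A) ⊓ (S ⊓ cj[t] A) = ⊥ := eq_bot_iff.2 fun _ c => mem_bot.2 (h.int c.1.1 c.1.2 c.2.2)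
theorem card2 : Nat.card ↥(S ⊓ cj[t] A) = Nat.card ↥(S ⊓ A) := by rw [← h.tU, card_cj]
theorem cardU : Nat.card ↥((S ⊓ A) ⊔ (S ⊓ cj[t] A)) = Nat.card ↥(S ⊓ A) * Nat.card ↥(S ⊓ A) := by
  rw [cseq (h.U1.trans h.nU2) h.disU, h.card2]

theorem half {X : Subgroup G} (c : X ≤ M) : Nat.card X ≤ 2 * Nat.card ↥(X ⊓ 𝐍(A)) := by
  have : 𝐍(A).relIndex X ∣ 2 := relIndex_dvd_two_iff.2 (by
    by_cases d : X ≤ 𝐍(A)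
    · exact ⟨1, one_mem _, fun b hb => .inr (d hb)⟩
    obtain ⟨x, x1, x2⟩ := SetLike.not_le_iff_exists.1 d
    exact ⟨x, x1, fun b hb => or_iff_not_imp_right.2 fun e => h.swp_mul (c hb) (c x1) e x2⟩)
  rw [← card_inf_mul_relIndex 𝐍(A) X, inf_comm, mul_comm]
  exact Nat.mul_le_mul_right _ (Nat.le_of_dvd two_pos this)

/-- the index of the product of the two Sylow subgroups -/
theorem rel0 {X : Subgroup G} (c : X ≤ S ⊓ 𝐍(A)) :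
    Nat.card X ≤ Nat.card W * Nat.card ↥(X ⊓ ((S ⊓ A) ⊔ (S ⊓ cj[t] A))) := by
  have l : (S ⊓ A) ⊔ (S ⊓ cj[t] A) ≤ S ⊓ 𝐍(A) := sup_le h.U1 h.U2
  have a : Nat.card ↥(S ⊓ 𝐍(A)) ≤ Nat.card W * Nat.card ↥((S ⊓ A) ⊔ (S ⊓ cj[t] A)) :=
    (card_le_card_of_le fun s hs => by
      obtain ⟨u, hu, v, hv, w, hw, rfl⟩ := h.dec s hs
      exact mul_mem (mem_sup_right (h.memU.2 ⟨u, hu, v, hv, rfl⟩)) (mem_sup_left hw)).trans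
      (csle (h.WS.trans (le_normalizer_sup h.nU1 h.nU2)))
  rw [← card_mul_relIndex l, mul_comm] at a
  rw [← card_inf_mul_relIndex _ X, inf_comm, mul_comm]
  exact Nat.mul_le_mul_right _ ((relIndex_le_of_le_right c index_ne_zero_of_finite).trans
    (Nat.le_of_mul_le_mul_right a Nat.card_pos))

theorem rel {X : Subgroup G} (c : X ≤ S) :
    Nat.card X ≤ 2 * Nat.card W * Nat.card ↥(X ⊓ ((S ⊓ A) ⊔ (S ⊓ cj[t] A))) :=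
  (h.half (c.trans h.SM)).trans (mul_assoc 2 _ _ ▸ Nat.mul_le_mul_left 2 ((h.rel0 (inf_le_inf_right _ c)).trans
    (Nat.mul_le_mul_left _ (card_le_card_of_le (inf_le_inf_right _ inf_le_left)))))

/-- centralisers in the product split -/
theorem spl (hs : s ∈ S ⊓ 𝐍(A)) (hu : u ∈ S ⊓ A) (hv : v ∈ S ⊓ cj[t] A) (c : u * v * s = s * (u * v)) :
    u * s = s * u ∧ v * s = s * v := by
  have e : u⁻¹ * (s * u * s⁻¹) = v * (s * v * s⁻¹)⁻¹ := by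
    rw [inv_mul_eq_iff_eq_mul, ← mul_assoc, eq_mul_inv_iff_mul_eq, ← mul_inv_eq_iff_eq_mul.2 c.symm]; group
  have a := mul_mem (inv_mem hu) (conj_mem_of_mem_normalizer (h.nU1 hs) hu)
  have b := h.int a.1 a.2 (e ▸ mul_mem hv (inv_mem (conj_mem_of_mem_normalizer (h.nU2 hs) hv))).2
  exact ⟨(mul_inv_eq_iff_eq_mul.1 (inv_mul_eq_one.1 b).symm).symm,
    (mul_inv_eq_iff_eq_mul.1 (mul_inv_eq_one.1 (e ▸ b)).symm).symm⟩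

theorem cardC (s : G) : Nat.card ↥(S ⊓ cj[t] A ⊓ 𝐂₁(s)) = Nat.card ↥(S ⊓ A ⊓ 𝐂₁(t * s * t)) := by
  rw [← card_cj t, cj_inf, ← h.tU, h.cjtt, cj_centralizer_singleton, h.ti]

theorem upU (hs : s ∈ S ⊓ 𝐍(A)) {X : Subgroup G} (c : X ≤ 𝐂₁(s)) : Nat.card ↥(X ⊓ ((S ⊓ A) ⊔ (S ⊓ cj[t] A))) ≤
    Nat.card ↥(S ⊓ A ⊓ 𝐂₁(s)) * Nat.card ↥(S ⊓ A ⊓ 𝐂₁(t * s * t)) := by
  rw [← h.cardC]
  refine (card_le_card_of_le fun x hx => ?_).trans (csle ((centralizer_le_normalizer _).trans'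
    fun x hx => mem_centralizer_iff'.2 fun y hy => (h.cm12 hx.1.2 hy.1.2).symm))
  obtain ⟨u, hu, v, hv, rfl⟩ := h.memU.1 hx.2
  have := h.spl hs hu hv (c1m.1 (c hx.1))
  exact mul_mem (mem_sup_left ⟨hu, c1m.2 this.1⟩) (mem_sup_right ⟨hv, c1m.2 this.2⟩)

theorem upS (hs : s ∈ S ⊓ 𝐍(A)) : Nat.card ↥(S ⊓ 𝐂₁(s)) ≤
    2 * Nat.card W * (Nat.card ↥(S ⊓ A ⊓ 𝐂₁(s)) * Nat.card ↥(S ⊓ A ⊓ 𝐂₁(t * s * t))) :=
  (h.rel inf_le_left).trans (Nat.mul_le_mul_left _ (h.upU hs inf_le_right))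

theorem upS0 (hs : s ∈ S ⊓ 𝐍(A)) : Nat.card ↥(S ⊓ 𝐍(A) ⊓ 𝐂₁(s)) ≤
    Nat.card W * (Nat.card ↥(S ⊓ A ⊓ 𝐂₁(s)) * Nat.card ↥(S ⊓ A ⊓ 𝐂₁(t * s * t))) :=
  (h.rel0 inf_le_left).trans (Nat.mul_le_mul_left _ (h.upU hs inf_le_right))

theorem upSw (hs : s ∈ S) (n : s ∉ 𝐍(A)) :
    Nat.card ↥(S ⊓ 𝐂₁(s)) ≤ 2 * Nat.card W * Nat.card ↥(S ⊓ A) := by
  refine (h.rel inf_le_left).trans (Nat.mul_le_mul_left _ (Nat.le_of_mul_le_mul_right ?_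
    (Nat.card_pos (α := ↥(S ⊓ cj[t] A)))))
  rw [← cseq (inf_le_right.trans ((sup_le h.U1 h.U2).trans h.nU2)) (eq_bot_iff.2 fun x hx => mem_bot.2
    (h.int hx.2.1 ?_ hx.2.2)), h.card2, ← h.cardU]
  · exact card_le_card_of_le (sup_le inf_le_right le_sup_right)
  · have := conj_mem_cj s hx.2.2
    rwa [(h.swp (h.SM hs) n).2, ← c1m.1 hx.1.1.2, mul_inv_cancel_right] at this

theorem c0 (hs : s ∈ S ⊓ E) (c : s * t = t * s) : s ∈ 𝐍(A) := by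
  obtain ⟨ε, e1, e2⟩ := h.eps
  obtain ⟨V, -, k⟩ := CF.Dbl.tt h.tt h.tM h.uq (MonoidHom.mk' (fun m : M => ε m) fun a b => e1 _ a.2 _ b.2)
  exact (e2 s).1 ((k Int.units_mul_self s (h.SM hs.1) c).symm.trans
    (Abelianization.commutator_subset_ker V (commutator_mono le_top le_top (h.ep.ge hs.2))))

theorem adj (hm : m ∈ M) (c : w * t = t * w) : ∃ n ∈ M ⊓ 𝐍(A), m * w * m⁻¹ = n * w * n⁻¹ := by
  by_cases d : m ∈ 𝐍(A)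
  · exact ⟨m, ⟨hm, d⟩, rfl⟩
  · exact ⟨_, h.mt hm d, by rw [mul_assoc m t, ← c]; group⟩

theorem sylC (c : w * t = t * w) : ∃ P, IsSyl 2 P 𝐂₁(w) ∧ t ∈ P ∧ P ≤ M := by
  obtain ⟨P, hP, l⟩ := exists_isSyl_ge (L := 𝐂₁(w)) (p2 h.tt) (zpowers_le.2 (c1m.2 c.symm))
  exact ⟨P, hP, l (mem_zpowers t), h.sub2 hP.isPGroup (l (mem_zpowers t))⟩

theorem c1'' (c : w * t = t * w) (hy : IsConj y w) (p : IsPGroup 2 R) (hR : R ≤ 𝐂₁(y)) :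
    ∃ x : G, cj[x] R ≤ S ∧ ∃ n ∈ M ⊓ 𝐍(A), x * y * x⁻¹ = n * w * n⁻¹ := by
  obtain ⟨x, rfl⟩ := isConj_iff.1 hy
  obtain ⟨P, hP, -, l⟩ := h.sylC c
  obtain ⟨d, hd, e⟩ := hP.exists_cj_le (isPGroup_cj x p) (cj_centralizer_singleton x y ▸ cj_mono x hR)
  obtain ⟨m, hm, e'⟩ := h.sylM.exists_cj_le hP.isPGroup l
  obtain ⟨n, hn, k⟩ := h.adj hm c
  refine ⟨m * d * x, by rw [cj_mul, cj_mul]; exact (cj_mono m e).trans e', n, hn, ?_⟩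
  rw [← k, ← mul_inv_eq_iff_eq_mul.2 (c1m.1 hd)]; group

theorem c1' (hw : w ∈ M ⊓ 𝐍(A)) (c : w * t = t * w) (hy : IsConj y w) {R : Subgroup G}
    (p : IsPGroup 2 R) (hR : R ≤ 𝐂₁(y)) (yR : y ∈ R) : ∃ x : G, cj[x] R ≤ S ∧ x * y * x⁻¹ ∈ 𝐍(A) ∧ γ (x * y * x⁻¹) = γ w ∧
      φ (x * y * x⁻¹) = φ w ∧ γ (t * (x * y * x⁻¹) * t) = γ w ∧ φ (t * (x * y * x⁻¹) * t) = φ w := by
  obtain ⟨x, a, n, hn, k⟩ := h.c1'' c hy p hR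
  refine ⟨x, a, ?_⟩
  rw [k, h.γc hn hw, h.φc hn hw, h.γc' hn hw, h.φc' hn hw, h.tfix c]
  exact ⟨(mul_mem (mul_mem hn hw) (inv_mem hn)).2, rfl, rfl, rfl, rfl⟩

theorem c1 (hw : w ∈ M ⊓ 𝐍(A)) (c : w * t = t * w) (w2 : w * w = 1) {n : ℕ}
    (up : ∀ s ∈ S ⊓ 𝐍(A), γ s = γ w → φ s = φ w → Nat.card ↥(S ⊓ A ⊓ 𝐂₁(s)) ≤ n) {R : Subgroup G}
    (p : IsPGroup 2 R) (hR : R ≤ 𝐂₁(w)) : Nat.card R ≤ 2 * Nat.card W * n ^ 2 := by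
  have hR' : R ⊔ zpowers w ≤ 𝐂₁(w) := sup_le hR (zpowers_le.2 (c1m.2 rfl))
  obtain ⟨x, a, b, a1, a2, a3, a4⟩ := h.c1' hw c (IsConj.refl w) (IsPGroup.to_sup_of_normal_right' p (p2 w2)
    (hR.trans ((centralizer_zpowers w).ge.trans (centralizer_le_normalizer _)))) hR' (mem_sup_right (mem_zpowers w))
  have s : x * w * x⁻¹ ∈ S ⊓ 𝐍(A) := ⟨a (conj_mem_cj x (mem_sup_right (mem_zpowers w))), b⟩
  rw [← card_cj x, pow_two]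
  exact (card_le_card_of_le (le_inf ((cj_mono x le_sup_left).trans a)
    (cj_centralizer_singleton x w ▸ cj_mono x hR))).trans ((h.upS s).trans
      (Nat.mul_le_mul_left _ (Nat.mul_le_mul (up _ s a1 a2) (up _ (h.tjS s) a3 a4))))

theorem dt (hw : w ∈ M ⊓ 𝐍(A)) (c : w * t = t * w) (hy : y ∈ M ⊓ 𝐍(A)) (d : y * t = t * y)
    (e : IsConj w y) : γ w = γ y ∧ φ w = φ y := by
  obtain ⟨x, rfl⟩ := isConj_iff.1 e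
  obtain ⟨P, hP, -, l⟩ := h.sylC d
  obtain ⟨b, hb, e⟩ := hP.exists_cj_le (isPGroup_cj x (p2 h.tt))
    (cj_centralizer_singleton x w ▸ cj_mono x (zpowers_le.2 (c1m.2 c.symm)))
  rw [← cj_mul] at e
  obtain ⟨n, hn, k⟩ := h.adj (h.uq _ (l (e (conj_mem_cj _ (mem_zpowers t))))) c
  have : x * w * x⁻¹ = n * w * n⁻¹ := by rw [← k, ← mul_inv_eq_iff_eq_mul.2 (c1m.1 hb)]; group
  rw [this, h.γc hn hw, h.φc hn hw]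
  exact ⟨rfl, rfl⟩

theorem sqC (hu : u ∈ A) (hv : v ∈ cj[t] A) (hw : w ∈ M ⊓ 𝐍(A)) (s2 : u * v * w * (u * v * w) = 1) :
    u * w * (u * w) ∈ cj[t] A := by
  have := inv_mem (mul_mem hv (conj_mem_of_mem_normalizer (h.n2 (mul_mem (h.A0 hu) hw)) hv))
  rw [h.cm12 hu hv] at s2
  rwa [inv_eq_of_mul_eq_one_right (b := u * w * (u * w)) (by rw [← s2]; group)] at this

theorem lo (hs : s ∈ S ⊓ 𝐍(A)) (s2 : s * s = 1) : ∃ R ≤ A ⊓ 𝐂₁(s), IsPGroup 2 R ∧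
    (φ s ≠ 1 → a ≤ Nat.card R) ∧ (φ s = 1 → γ s ≠ 1 → g ≤ Nat.card R) ∧ (φ s = 1 → γ s = 1 → l ≤ Nat.card R) := by
  have f2 := h.φ2 (h.S0 hs) s2
  obtain ⟨u, hu, v, hv, w, hw, rfl, b1, b2, -⟩ := h.wdec hs
  have q := h.com' (h.sqC hu.2 hv.2 (h.W0 hw) s2)
  rw [b1, b2]
  rw [b2] at f2
  have k : ∀ x ∈ A, ∀ y ∈ 𝐂(S ⊓ A ⊓ 𝐂₁(w)), x * (u * w) * x⁻¹ * y⁻¹ ∈ 𝐂(A) →
      cj[x⁻¹] (S ⊓ A ⊓ 𝐂₁(w)) ≤ A ⊓ 𝐂₁(u * v * w) := fun x hx y hy c => cj_le_iff_forall.2 fun r hr => by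
    have rA := mul_mem (mul_mem (inv_mem hx) hr.1.2) (inv_mem (inv_mem hx))
    refine ⟨rA, c1m.2 ?_⟩
    have := mem_centralizer_iff'.1 (mul_mem (centralizer_anti (inf_le_left.trans inf_le_right) c) hy) r hr
    rw [inv_mul_cancel_right] at this
    rw [h.cm12 hu.2 hv.2, mul_assoc v, ← mul_assoc, h.cm12 rA hv.2, mul_assoc, mul_assoc v]
    congr 1
    calc _ = x⁻¹ * (r * (x * (u * w) * x⁻¹)) * x := by group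
      _ = _ := by rw [this]; group
  have p : ∀ x, IsPGroup 2 (cj[x] (S ⊓ A ⊓ 𝐂₁(w))) := fun x =>
    isPGroup_cj x (h.pS.to_le (inf_le_left.trans inf_le_left))
  have wc : w ∈ 𝐂(S ⊓ A ⊓ 𝐂₁(w)) := mem_centralizer_iff'.2 fun _ a => c1m.1 a.2
  by_cases f : φ w = 1
  · by_cases c : γ w = 1
    · have d := h.cen w hw c f
      have e : u * w * (u * w) * w⁻¹ * w⁻¹ = u * u := by
        rw [mul_assoc u, ← mul_assoc w, ← mem_centralizer_iff'.1 d u hu.2]; group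
      obtain ⟨R, r1, r2, r3⟩ := h.loI u hu (h.triv (mul_mem hu.1 hu.1)
        (e ▸ mul_mem (mul_mem q (inv_mem d)) (inv_mem d)) (h.com (mul_mem hu.2 hu.2)))
      refine ⟨R, fun r hr => ⟨(r1 hr).1, c1m.2 ?_⟩, r2, absurd f, fun _ => absurd c, fun _ _ => r3⟩
      rw [← mul_assoc, ← mul_assoc, c1m.1 (r1 hr).2, mul_assoc u, h.cm12 (r1 hr).1 hv.2, ← mul_assoc, mul_assoc _ r,
        mem_centralizer_iff'.1 d r (r1 hr).1, ← mul_assoc]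
    · obtain ⟨x, hx, e⟩ := (h.cls w hw c f).2 u hu q
      exact ⟨_, e.elim (k x hx w wc) (k x hx _ (mul_mem (mem_centralizer_iff'.2 fun _ a => c1m.1 (h.zc (h.U1 a.1))) wc)),
        p _, absurd f, fun _ _ => by rw [card_cj]; exact h.loG w hw c f, fun _ => (absurd · c)⟩
  · obtain ⟨x, hx, e⟩ := h.lang w hw f f2 u hu q
    exact ⟨_, k x hx.2 w wc e, p _, fun _ => by rw [card_cj]; exact h.loF w hw f f2, (absurd · f), (absurd · f)⟩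

theorem lo2 {R R' : Subgroup G} (p : IsPGroup 2 R) (p' : IsPGroup 2 R') (hR : R ≤ A) (hR' : R' ≤ A) :
    IsPGroup 2 ↥(R ⊔ cj[t] R') ∧ Nat.card ↥(R ⊔ cj[t] R') = Nat.card R * Nat.card R' := by
  have n : R ≤ 𝐍(cj[t] R') := hR.trans (h.com.trans (centralizer_le_normalizer_of_le (cj_mono t hR')))
  refine ⟨IsPGroup.to_sup_of_normal_right' p (isPGroup_cj t p') n, ?_⟩
  rw [cseq n (eq_bot_iff.2 fun x c => ?_), card_cj]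
  obtain ⟨n, e⟩ := isPGroup_iff_forall.1 p x c.1
  exact h.triv2 (h.AM (hR c.1)) (h.com' (cj_mono t hR' c.2)) (h.com (hR c.1)) e

theorem lang2 (hs : s ∈ S ⊓ 𝐍(A)) (s2 : s * s = 1) (hw : w ∈ W) (f1 : φ s ≠ 1) (f2 : φ (t * s * t) ≠ 1)
    (e1 : γ w = γ s) (e2 : φ w = φ s) (e3 : γ (t * w * t) = γ (t * s * t)) (e4 : φ (t * w * t) = φ (t * s * t)) :
    IsConj s w := by
  have q1 := h.φ2 (h.S0 hs) s2
  have q2 := h.φ2 (h.tj (h.S0 hs)) (h.tsq s2)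
  have t2 := h.tsq s2
  rw [← e2] at f1 q1
  rw [← e4] at f2 q2
  obtain ⟨u, hu, v, hv, w', hw', rfl, b1, b2, b3, b4⟩ := h.wdec hs
  obtain rfl : w = w' := h.winj hw hw' (e1.trans b1) (e2.trans b2) (e3.trans b3) (e4.trans b4)
  obtain ⟨x, hx, c⟩ := h.lang w hw f1 q1 u hu (h.com' (h.sqC hu.2 hv.2 (h.W0 hw) s2))
  rw [h.cm12 hu.2 hv.2, h.tmul, h.tmul] at t2
  obtain ⟨y, hy, d⟩ := h.lang _ (h.wt hw) f2 q2 _ (h.t21 hv)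
    (h.com' (h.sqC (h.t21 hv).2 (h.t12 hu).2 (h.W0 (h.wt hw)) t2))
  have hy' := h.t12 hy
  rw [← h.tc y, ← h.tinv (t * y * t), ← h.tinv w, ← h.tmul v, ← h.tmul, ← h.tmul, ← h.tmul, ← h.c12] at d
  generalize t * y * t = y at hy' d
  have wS := (h.WS hw).1
  refine isConj_iff.2 ⟨x * y, mul_inv_eq_one.1 (h.triv (mul_mem (mul_mem (mul_mem (mul_mem hx.1 hy'.1)
    (mul_mem (mul_mem hu.1 hv.1) wS)) (inv_mem (mul_mem hx.1 hy'.1))) (inv_mem wS)) ?_ ?_)⟩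
  · have := mul_mem (mul_mem (h.com' (mul_mem hy'.2 hv.2)) c)
      (h.com' (conj_mem_of_mem_normalizer (h.n2 (h.W0 hw)) (inv_mem hy'.2)))
    convert this using 1
    rw [h.cm12 hu.2 hv.2, ← mul_assoc (y * v), ← mul_assoc (y * v), ← mul_assoc (y * v), ← h.cm12 hx.2 (mul_mem hy'.2 hv.2),
      h.cm12 hx.2 hy'.2, mul_inv_rev, ← h.cm12 hx.2 hy'.2]
    group
  · have := mul_mem (mul_mem (h.com (mul_mem hx.2 hu.2)) d)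
      (h.com (conj_mem_of_mem_normalizer (h.W0 hw).2 (inv_mem hx.2)))
    convert this using 1
    rw [mul_assoc x y, ← mul_assoc y, ← mul_assoc y, ← h.cm12 hu.2 hy'.2]
    group

end OJ

end CF.F8
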