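import Cfsg.Agent.Ld.A1

/-! Fusion of the central involution with a root coset, type `F₄`: the abstract argument. -/

set_option autoImplicit false

namespace CF.F8

open Cfsg Subgroup CF.Loc CF.LX CF.Ld CF.Ld.A1
open scoped commutatorElement

variable {G : Type*} [Group G] {L L' H Q Q' : Subgroup G} {R R' : Set G} {s t x y d : G} {k : ℕ}

/-- in the second centre, outside the centre, with few commutators -/
def EE (Q : Subgroup G) (d : G) : Prop := d ∈ Q ∧ d ∉ 𝐂(Q) ∧ (∀ u ∈ Q, ⁅d, u⁆ ∈ 𝐂(Q)) ∧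
  ∃ z ∈ Q ⊓ 𝐂(Q), ∀ u ∈ Q, ⁅d, u⁆ ≠ z

/-- a cube of such elements -/
def Cube (Q : Subgroup G) (a b c : G) : Prop := ∀ d ∈ [a, b, c, a * b, a * c, b * c, a * b * c], EE Q d

/-- the seven points -/
def pts (x a b c : G) : List G := [a, b, c, a * b, b * c, x * (a * c), x * (a * b * c)]

/-- the type of an involution `x` which is not a root element; `Q = O₂(C_L(x))` -/
structure Ty (L : Subgroup G) (R : Set G) (k : ℕ) (x : G) (Q : Subgroup G) : Prop where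
  le : Q ≤ I2 (L ⊓ 𝐂₁(x))
  p2 : IsPGroup 2 Q
  nrm : L ⊓ 𝐂₁(x) ≤ 𝐍(Q)
  mx : ∀ P ≤ L ⊓ 𝐂₁(x), IsPGroup 2 P → L ⊓ 𝐂₁(x) ≤ 𝐍(P) → P ≤ Q
  bd : ∀ V ≤ Q ⊓ 𝐂(Q), k < Nat.card V → ∃ y ∈ V, y ∈ R
  alt : (∃ V ≤ Q ⊓ 𝐂(Q), k < Nat.card V ∧ ∀ y ∈ V, Cj L x (x * y)) ∨
    ((∃ a b c, Cube Q a b c ∧ ∀ d ∈ pts x a b c, d ∈ R) ∧
      ∀ a b c, Cube Q a b c → ∃ d ∈ pts x a b c, Cj L x (x * d))

/-- facts inside `L` -/
structure RL (L : Subgroup G) (R : Set G) (k : ℕ) : Prop where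
  i2 : ∀ x ∈ L, x * x = 1 → x ∈ O2 (L ⊓ 𝐂₁(x))
  ty : ∀ x ∈ L, x * x = 1 → x ≠ 1 → x ∉ R → ∃ Q, Ty L R k x Q

/-- the involution `t` centralising `L` -/
structure PA8 (L : Subgroup G) (R : Set G) (k : ℕ) (t : G) : Prop extends RL L R k where
  zo : Odd (Nat.card ↥(L ⊓ 𝐂(L)))
  out : ∀ s ∈ 𝐍(L), s * s = 1 → s ∉ L ⊔ 𝐂(L) → ∃ y, y * y = 1 ∧ y ≠ 1 ∧ IsConj s (s * y) ∧
    y ∈ O2 (𝐂₁(s) ⊓ 𝐂₁(y))
  tt : t * t = 1
  t1 : t ≠ 1
  tC : t ∈ 𝐂(L)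
  nL : 𝐂₁(t) ≤ 𝐍(L)
  cyc : ∀ c ∈ 𝐂(L), c * c = 1 → c * t = t * c → c = 1 ∨ c = t
  o2 : ∀ a ∈ O2 𝐂₁(t), a * a = 1 → a ∈ L

/-- the assumption to be refuted -/
structure PB8 (L : Subgroup G) (R : Set G) (k : ℕ) (t : G) : Prop extends PA8 L R k t where
  st : ∀ r ∈ R, ¬ IsConj t (t * r)

theorem I2_le : I2 H ≤ O2 H := (closure_le _).2 fun _ a => a.1

section map
variable {G' : Type*} [Group G'] {φ : G →* G'}

theorem o2_map (i : Function.Injective φ) : (O2 H).map φ ≤ O2 (H.map φ) := by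
  rw [O2, MonoidHom.map_closure]
  exact closure_mono (by rintro _ ⟨g, a, rfl⟩; exact ⟨mem_map_of_mem φ a.1, by rw [orderOf_injective φ i]; exact a.2⟩)

theorem i2_map (i : Function.Injective φ) : (I2 H).map φ ≤ I2 (H.map φ) := by
  rw [I2, MonoidHom.map_closure]
  exact closure_mono (by
    rintro _ ⟨g, a, rfl⟩
    exact ⟨o2_map i (mem_map_of_mem φ a.1), by rw [← map_mul, a.2, map_one]⟩)

variable (i : Function.Injective φ)
include i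

omit i in
theorem fa_map {p : G' → Prop} : (∀ y ∈ H.map φ, p y) ↔ ∀ x ∈ H, p (φ x) :=
  ⟨fun h x a => h _ (mem_map_of_mem φ a), by rintro h _ ⟨x, a, rfl⟩; exact h x a⟩

omit i in
theorem ex_map {p : G' → Prop} : (∃ y ∈ H.map φ, p y) ↔ ∃ x ∈ H, p (φ x) :=
  ⟨by rintro ⟨_, ⟨x, a, rfl⟩, h⟩; exact ⟨x, a, h⟩, fun ⟨x, a, h⟩ => ⟨_, mem_map_of_mem φ a, h⟩⟩

theorem mem_map' : φ x ∈ H.map φ ↔ x ∈ H := mem_map_iff_mem i

theorem map_c1 : L.map φ ⊓ 𝐂₁(φ x) = (L ⊓ 𝐂₁(x)).map φ := by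
  ext g
  constructor
  · rintro ⟨⟨g, a, rfl⟩, b⟩
    exact mem_map_of_mem φ ⟨a, mem_c1.2 (i (by simpa using mem_c1.1 b))⟩
  · rintro ⟨g, a, rfl⟩
    exact ⟨mem_map_of_mem φ a.1, mem_c1.2 (by rw [← map_mul, mem_c1.1 a.2, map_mul])⟩

theorem map_C : φ x ∈ 𝐂(H.map φ) ↔ x ∈ 𝐂(H) := by
  simp only [mem_centralizer_iff', fa_map, ← map_mul, i.eq_iff]

theorem map_N : φ x ∈ 𝐍(H.map φ) ↔ x ∈ 𝐍(H) := by
  refine ⟨fun a => mem_normalizer_iff.2 fun h => ?_, fun a => le_normalizer_map φ (mem_map_of_mem φ a)⟩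
  rw [← mem_map' i, mem_normalizer_iff.1 a, ← map_inv, ← map_mul, ← map_mul, mem_map' i]

theorem map_Cj : Cj (L.map φ) (φ x) (φ y) ↔ Cj L x y := by
  simp only [Cj, ex_map, ← map_inv, ← map_mul, i.eq_iff]

theorem map_Z : Q.map φ ⊓ 𝐂(Q.map φ) = (Q ⊓ 𝐂(Q)).map φ := by
  ext g
  constructor
  · rintro ⟨⟨g, a, rfl⟩, b⟩
    exact mem_map_of_mem φ ⟨a, (map_C i).1 b⟩
  · rintro ⟨g, a, rfl⟩
    exact ⟨mem_map_of_mem φ a.1, (map_C i).2 a.2⟩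

theorem map_EE : EE (Q.map φ) (φ d) ↔ EE Q d := by
  rw [EE, map_Z i]
  simp only [EE, mem_map' i, map_C i, fa_map, ex_map, ← map_commutatorElement, i.ne_iff]

theorem map_cube {a b c : G} : Cube (Q.map φ) (φ a) (φ b) (φ c) ↔ Cube Q a b c := by
  simp only [Cube, List.forall_mem_cons, ← map_mul, map_EE i, List.not_mem_nil, false_imp_iff, implies_true]

omit i in
theorem map_pts (a b c : G) : pts (φ x) (φ a) (φ b) (φ c) = (pts x a b c).map φ := by simp [pts]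

theorem Ty.map (h : Ty L R k x Q) : Ty (L.map φ) (φ '' R) k (φ x) (Q.map φ) where
  le := by rw [map_c1 i]; exact (map_mono h.le).trans (i2_map i)
  p2 := h.p2.map φ
  nrm := by rw [map_c1 i]; exact (map_mono h.nrm).trans (le_normalizer_map φ)
  mx := fun P a b c => by
    rw [map_c1 i] at a c
    obtain ⟨P, rfl⟩ : ∃ W : Subgroup G, P = W.map φ := ⟨_, (map_comap_eq_self (a.trans (map_le_range _ _))).symm⟩
    exact map_mono (h.mx _ ((map_le_map_iff_of_injective i).1 a) (b.of_equiv (equivMapOfInjective _ φ i).symm)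
      fun g m => (map_N i).1 (c (mem_map_of_mem φ m)))
  bd := fun V a b => by
    rw [map_Z i] at a
    obtain ⟨V, rfl⟩ : ∃ W : Subgroup G, V = W.map φ := ⟨_, (map_comap_eq_self (a.trans (map_le_range _ _))).symm⟩
    obtain ⟨y, c, d⟩ := h.bd V ((map_le_map_iff_of_injective i).1 a) (by rwa [card_map_of_injective i] at b)
    exact ⟨_, mem_map_of_mem φ c, y, d, rfl⟩
  alt := h.alt.imp (fun ⟨V, a, b, c⟩ => ⟨V.map φ, map_Z i ▸ map_mono a, by rwa [card_map_of_injective i], by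
      rintro _ ⟨y, m, rfl⟩
      rw [← map_mul, map_Cj i]
      exact c y m⟩) fun ⟨⟨a, b, c, d, e⟩, f⟩ => ⟨⟨_, _, _, (map_cube i).2 d, fun u m => by
      rw [map_pts] at m
      obtain ⟨v, n, rfl⟩ := List.mem_map.1 m
      exact ⟨v, e v n, rfl⟩⟩, fun a b c d => by
      obtain ⟨a, -, rfl⟩ := (d a (by simp)).1
      obtain ⟨b, -, rfl⟩ := (d b (by simp)).1
      obtain ⟨c, -, rfl⟩ := (d c (by simp)).1
      obtain ⟨u, m, n⟩ := f a b c ((map_cube i).1 d)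
      exact ⟨φ u, by rw [map_pts]; exact List.mem_map_of_mem m, by rwa [← map_mul, map_Cj i]⟩⟩

theorem RL.map (h : RL L R k) : RL (L.map φ) (φ '' R) k where
  i2 := by
    rintro _ ⟨x, a, rfl⟩ b
    rw [map_c1 i]
    exact o2_map i (mem_map_of_mem φ (h.i2 x a (i (by simpa using b))))
  ty := by
    rintro _ ⟨x, a, rfl⟩ b c d
    obtain ⟨Q, e⟩ := h.ty x a (i (by simpa using b)) (fun e => c (by simp [e])) fun e => d ⟨x, e, rfl⟩
    exact ⟨_, e.map i⟩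

end map

theorem cm_pb8 (φ : G ≃* G) (h : PB8 L R k (φ t)) : PB8 (cm φ L) (φ ⁻¹' R) k t where
  toRL := by
    rw [cm_eq, show φ ⁻¹' R = φ.symm '' R from (φ.symm.toEquiv.image_eq_preimage_symm R).symm]
    exact h.toRL.map (φ := (φ.symm : G →* G)) φ.symm.injective
  zo := by
    rw [cm_C, cm_inf, cm_eq, card_map_of_injective φ.symm.injective]
    exact h.zo
  out := fun s a b c => by
    rw [cm_N] at a
    rw [cm_C, cm_sup] at c
    obtain ⟨y, d, e, f, m⟩ := h.out _ a (by rw [← map_mul, b, map_one]) c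
    obtain ⟨y, rfl⟩ := φ.surjective y
    exact ⟨y, φ.injective (by simpa using d), by simpa using e,
      by simpa using (φ.symm : G →* G).map_isConj f, by rwa [cm_c1 φ, cm_c1 φ (x := y), cm_inf, cm_O2]⟩
  tt := φ.injective (by simpa using h.tt)
  t1 := by simpa using h.t1
  tC := by rw [cm_C]; exact h.tC
  nL := by rw [cm_c1 φ, cm_N, cm_le]; exact h.nL
  cyc := fun c a b d => by
    rw [cm_C] at a
    simpa using h.cyc (φ c) a (by rw [← map_mul, b, map_one]) (by rw [← map_mul, d, map_mul])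
  o2 := fun a b c => by
    rw [cm_c1 φ, cm_O2] at b
    exact h.o2 _ b (by rw [← map_mul, c, map_one])
  st := fun r a b => h.st _ a (map_mul φ t r ▸ (φ : G →* G).map_isConj b)

theorem PA8.one (h : PA8 L R k t) (a : x ∈ L) (b : x ∈ 𝐂(L)) (c : x * x = 1) : x = 1 := by
  obtain ⟨j, hj⟩ := h.zo
  have f : x ^ (2 * j + 1) = 1 := congrArg Subtype.val (hj ▸ pow_card_eq_one' (x := (⟨x, a, b⟩ : ↥(L ⊓ 𝐂(L)))))
  rwa [pow_succ, pow_mul, pow_two, c, one_pow, one_mul] at f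

theorem PA8.inn (h : PA8 L R k t) (ss : s * s = 1) (s1 : s ≠ 1) (n : s ≠ t) (c : s * t = t * s)
    (m : s ∈ L ⊔ 𝐂(L)) : ∃ x ∈ L, x * x = 1 ∧ x ≠ 1 ∧ (s = x ∨ s = t * x) := by
  obtain ⟨l, a, d, b, rfl⟩ := (mem_sup_of_le_normalizer (centralizer_le_normalizer _)).1 m
  have k : Commute l d := mem_centralizer_iff'.1 b l a
  have e : l ^ 2 = (d ^ 2)⁻¹ := eq_inv_of_mul_eq_one_left (by rw [← k.mul_pow, pow_two, ss])
  obtain ⟨j, hj⟩ := h.zo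
  have f : (l ^ 2) ^ (2 * j + 1) = 1 := congrArg Subtype.val (hj ▸ pow_card_eq_one'
    (x := (⟨l ^ 2, pow_mem a 2, e ▸ (𝐂(L)).inv_mem (pow_mem b 2)⟩ : ↥(L ⊓ 𝐂(L)))))
  have g : l * d = l ^ (2 * j + 1) * d ^ (2 * j + 1) := by
    rw [← k.mul_pow, pow_succ, pow_mul, pow_two, ss, one_pow, one_mul]
  have lt : l ^ (2 * j + 1) * t = t * l ^ (2 * j + 1) := mem_centralizer_iff'.1 h.tC _ (pow_mem a _)
  have q := h.cyc _ (pow_mem b (2 * j + 1))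
    (by rw [← pow_two, ← pow_mul, mul_comm, pow_mul, ← inv_eq_one, ← inv_pow, ← e, f])
    (mul_left_cancel (a := l ^ (2 * j + 1)) (by rw [← mul_assoc, ← g, c, g, ← mul_assoc, ← mul_assoc, lt]))
  rw [g] at s1 n ⊢
  refine ⟨_, pow_mem a (2 * j + 1), by rw [← pow_two, ← pow_mul, mul_comm, pow_mul, f], fun o => ?_, ?_⟩
  · rw [o, one_mul] at s1 n
    exact q.elim s1 n
  · exact q.imp (fun q => by rw [q, mul_one]) fun q => by rw [q, lt]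

theorem PA8.cjm (h : PA8 L R k t) (c : Cj L x y) : IsConj (t * x) (t * y) := by
  obtain ⟨l, a, rfl⟩ := c
  exact isConj_iff.2 ⟨l, by rw [conj_mul_conj, conj_eq_iff.2 (mem_centralizer_iff'.1 h.tC l a)]⟩

variable [Finite G]

omit [Finite G] in
theorem PA8.le_c (h : PA8 L R k t) : L ⊓ 𝐂₁(x) ≤ 𝐂₁(t * x) := fun g a =>
  mem_c1.2 (by rw [← mul_assoc, mem_centralizer_iff'.1 h.tC g a.1, mul_assoc, mem_c1.1 a.2, mul_assoc])

theorem Ty.le' (h : PA8 L R k t) (h' : PA8 L' R' k (t * x)) (xx : x * x = 1) (a : Ty L R k x Q) (b : Ty L' R' k x Q') :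
    Q ≤ Q' := by
  have e : t * x * x = t := by rw [mul_assoc, xx, mul_one]
  have n : L' ⊓ 𝐂₁(x) ≤ 𝐍(L ⊓ 𝐂₁(x)) := fun g m => mem_normalizer_of_conj_mem fun u v =>
    ⟨conj_mem_of_mem_normalizer (h.nL (e ▸ h'.le_c m)) v.1, mem_c1.2 (Commute.mul_left (Commute.mul_left
      (mem_c1.1 m.2) (mem_c1.1 v.2)) (Commute.inv_left (mem_c1.1 m.2)))⟩
  have q : Q ≤ L ⊓ 𝐂₁(x) := a.le.trans (I2_le.trans O2_le)
  refine b.mx Q (a.le.trans ((closure_le _).2 fun g u => ⟨h'.o2 g (O2_mono h.le_c u.1) u.2, (O2_le u.1).2⟩)) a.p2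
    fun g m => mem_normalizer_of_conj_mem fun u v => a.mx (cj[g] Q) ?_ (a.p2.map _) ?_ (conj_mem_cj g v)
  · exact (cj_mono g q).trans (cj_eq_self (n m)).le
  · rw [← cj_eq_self (n m), ← cj_normalizer]
    exact cj_mono g a.nrm

theorem PB8.ip (h : PB8 L R k t) (h' : PB8 L' R' k (t * x)) (c : IsConj t (t * x)) (a : x ∈ L) (a' : x ∈ L')
    (xx : x * x = 1) (x1 : x ≠ 1) : False := by
  have e : t * x * x = t := by rw [mul_assoc, xx, mul_one]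
  obtain ⟨Q, b⟩ := h.ty x a xx x1 fun r => h.st x r c
  obtain ⟨Q', b'⟩ := h'.ty x a' xx x1 fun r => h'.st x r (e.symm ▸ c.symm)
  obtain rfl : Q = Q' := le_antisymm (b.le' h.toPA8 h'.toPA8 xx b') (b'.le' h'.toPA8 (e.symm ▸ h.toPA8) xx b)
  have k : ∀ d ∈ R, ¬ Cj L' x (x * d) := fun d r m => h.st d r (by
    simpa only [← mul_assoc, e] using h'.cjm m)
  rcases b'.alt with ⟨V, m, n, o⟩ | ⟨-, o⟩
  · obtain ⟨y, p, q⟩ := b.bd V m n
    exact k y q (o y p)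
  rcases b.alt with ⟨V, m, n, o⟩ | ⟨⟨a, b, c, m, n⟩, -⟩
  · obtain ⟨y, p, q⟩ := b'.bd V m n
    exact h'.st y q (mul_assoc t x y ▸ h.cjm (o y p))
  · obtain ⟨d, p, q⟩ := o a b c m
    exact k d (n d p) q

theorem PB8.out' (h : PB8 L R k t) (h' : PB8 L' R' k s) (c : s * t = t * s) : s ∈ L ⊔ 𝐂(L) := by
  by_contra n
  obtain ⟨y, yy, y1, d, f⟩ := h.out s (h.nL (mem_c1.2 c)) h'.tt n
  obtain ⟨φ, e⟩ := ex_aut d
  have k := cm_pb8 φ (e.symm ▸ h')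
  exact h'.ip k d (h'.o2 y (O2_mono inf_le_left f) yy) (k.o2 y (O2_mono (H := 𝐂₁(s) ⊓ 𝐂₁(y)) (fun g m => mem_c1.2
    (Commute.mul_right (mem_c1.1 m.1) (mem_c1.1 m.2))) f) yy) yy y1

theorem PA8.main (h : PA8 L R k t) (n : ∃ g : G, g * t * g⁻¹ ≠ t ∧ g * t * g⁻¹ * t = t * (g * t * g⁻¹)) :
    ∃ r ∈ R, IsConj t (t * r) := by
  by_contra! k
  obtain ⟨g, n, c⟩ := n
  have i : IsConj t (g * t * g⁻¹) := isConj_iff.2 ⟨g, rfl⟩
  generalize g * t * g⁻¹ = s at n c i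
  have b : PB8 L R _ t := ⟨h, k⟩
  obtain ⟨L', R', b'⟩ : ∃ L' R', PB8 L' R' _ s := let ⟨φ, e⟩ := ex_aut i; ⟨_, _, cm_pb8 φ (e.symm ▸ b)⟩
  obtain ⟨x, a1, a2, a3, a4⟩ := h.inn b'.tt b'.t1 n c (b.out' b' c)
  obtain ⟨y, c1, c2, c3, c4⟩ := b'.inn h.tt h.t1 n.symm c.symm (b'.out' b c.symm)
  have e := a4.resolve_left fun e => by
    subst e
    exact a3 (b'.one (b'.o2 _ (O2_mono inf_le_right (h.i2 _ a1 a2)) a2) b'.tC a2)
  have f := c4.resolve_left fun e => by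
    subst e
    exact c3 (h.one (h.o2 _ (O2_mono inf_le_right (b'.i2 _ c1 c2)) c2) h.tC c2)
  subst e
  rw [mul_assoc, left_eq_mul] at f
  obtain rfl : y = x := by rw [← inv_eq_of_mul_eq_one_right f, inv_eq_of_mul_eq_one_right a2]
  exact b.ip b' i a1 c1 a2 a3

end CF.F8
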